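import Mathlib
import Cfsg.Statements.S1404
import Cfsg.Statements.S1405
import Cfsg.Agent.S3743
import Cfsg.Agent.Lib.Helper72.BG8

/-!
Bender–Glauberman Theorem 10.2(b),(c) (helper66), in the BG-campaign style: the earlier statements
S1404 (BG 10.1) and S1405 (BG 10.2(a),(d)) are taken as hypotheses (only their *types* are used).

* `sylow_le_commutator_of_sigma` : for `p ∈ σ(M)` every Sylow `p`-subgroup of `M` lies in `M'`
  (focal subgroup theorem + 10.1(a)).
* `sylow_le_piCore_sigma` : for `p ∈ σ(M)` every Sylow `p`-subgroup of `M` lies in `O_σ(M)`.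
* `piCore_sigma_le_commutator` / `sigmaCore_le_commutator` : `M_σ ≤ M'`.
* `s1350_core` : statement S1350.
-/

set_option autoImplicit false

namespace Cfsg.Agent.Lib.Helper66.BG

open Cfsg
open scoped commutatorElement

section General

variable {X : Type*} [Group X] [Finite X]

/-- A Sylow subgroup contained in a normal nilpotent subgroup is normal. -/
theorem sylow_normal_of_le_normal_nilpotent {p : ℕ} [Fact p.Prime] (S : Sylow p X)
    (D : Subgroup X) [D.Normal] (hD : Group.IsNilpotent D) (hS : (S : Subgroup X) ≤ D) :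
    (S : Subgroup X).Normal := by
  have hTn : ((S.subtype hS : Sylow p D) : Subgroup D).Normal := inferInstance
  have hTc : ((S.subtype hS : Sylow p D) : Subgroup D).Characteristic :=
    Sylow.characteristic_of_normal _ hTn
  have h1 : (((S.subtype hS : Sylow p D) : Subgroup D).map D.subtype).Normal :=
    ConjAct.normal_of_characteristic_of_normal
  have h2 : ((S.subtype hS : Sylow p D) : Subgroup D).map D.subtype = (S : Subgroup X) := by
    rw [Sylow.coe_subtype]
    exact Subgroup.map_subgroupOf_eq_of_le hS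
  rw [h2] at h1
  exact h1

/-- If a number divides a `π`-number and is coprime to every prime of `π`, it is `1`. -/
theorem eq_one_of_dvd_pi_of_not_dvd {π : Set ℕ} {a b : ℕ}
    (hb : ∀ p : ℕ, p.Prime → p ∣ b → p ∈ π) (hab : a ∣ b)
    (ha : ∀ p : ℕ, p.Prime → p ∈ π → ¬ p ∣ a) : a = 1 := by
  by_contra h
  obtain ⟨q, hq, hqa⟩ := Nat.exists_prime_and_dvd h
  exact ha q hq (hb q hq (hqa.trans hab)) hqa

end General

variable {G : Type*} [Group G] [Finite G]

theorem commutator_eq_top (hG : IsMinSimpleOddOrder G) : commutator G = ⊤ := by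
  obtain ⟨-, hsimple, hnc, -⟩ := hG
  have := hsimple
  rcases (inferInstance : (commutator G).Normal).eq_bot_or_eq_top with h | h
  · exfalso
    apply hnc
    constructor
    constructor
    intro a b
    have h1 : ⁅a, b⁆ ∈ commutator G := Subgroup.commutator_mem_commutator (Subgroup.mem_top a) (Subgroup.mem_top b)
    rw [h, Subgroup.mem_bot, commutatorElement_eq_one_iff_mul_comm] at h1
    exact h1
  · exact h

/-- The specific Sylow `p`-subgroup of `M` whose normalizer lies in `M` (for `p ∈ σ(M)`) lies in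
`M'`: focal subgroup theorem and BG 10.1(a). -/
theorem sylow_le_commutator_of_normalizer_le (hG : IsMinSimpleOddOrder G)
    (h1404 : type_of% (@Cfsg.CfsgFrozen.S1404 G _ _ hG))
    (M : Subgroup G) (hM : IsCoatom M) (p : ℕ) [Fact p.Prime] (hp : p ∈ sigma M)
    (P : Sylow p M)
    (hPN : Subgroup.normalizer (((P : Subgroup M).map M.subtype : Subgroup G) : Set G) ≤ M) :
    (P : Subgroup M) ≤ commutator M := by
  obtain ⟨Q, hQ⟩ := Cfsg.Agent.Lib.Helper72.BG8.exists_sylow_eq_of_normalizer_le M P hPN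
  have hQM : (Q : Subgroup G) ≤ M := by
    rw [hQ]; exact Subgroup.map_subtype_le _
  have hfoc := Subgroup.commutator_inf_eq_focalSubgroup Q
  rw [commutator_eq_top hG, top_inf_eq] at hfoc
  have hle : (Q : Subgroup G).focalSubgroup ≤ (commutator M).map M.subtype := by
    rw [Subgroup.focalSubgroup_def, Subgroup.closure_le]
    rintro g ⟨hgQ, x, hxQ, u, rfl⟩
    by_cases hx1 : x = 1
    · subst hx1
      simp
    -- u x u⁻¹ ∈ Q
    have hux : u * x * u⁻¹ ∈ (Q : Subgroup G) := by
      have h1 : x⁻¹ * ⁅x, u⁆ ∈ (Q : Subgroup G) := mul_mem (inv_mem hxQ) hgQ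
      have h2 : x⁻¹ * ⁅x, u⁆ = (u * x * u⁻¹)⁻¹ := by
        rw [commutatorElement_def]; group
      rw [h2] at h1
      exact (inv_mem_iff).mp h1
    have hXp : IsPGroup p (Subgroup.zpowers x) :=
      Q.isPGroup'.to_le (by rw [Subgroup.zpowers_le]; exact hxQ)
    have hX1 : Subgroup.zpowers x ≠ ⊥ := by
      rw [Ne, Subgroup.zpowers_eq_bot]; exact hx1
    have hXM : Subgroup.zpowers x ≤ M := by
      rw [Subgroup.zpowers_le]; exact hQM hxQ
    have hconj : (Subgroup.zpowers x).map (MulAut.conj u).toMonoidHom ≤ M := by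
      rw [MonoidHom.map_zpowers, Subgroup.zpowers_le]
      exact hQM (by simpa using hux)
    obtain ⟨m, hm, c, hc, rfl⟩ := (h1404 M hM p hp (Subgroup.zpowers x) hXp hX1 hXM).1 u hconj
    have hcx : c * x = x * c := by
      have := Subgroup.mem_centralizer_iff.mp hc x (Subgroup.mem_zpowers x)
      exact this.symm
    have hg : ⁅x, m * c⁆ = ⁅x, m⁆ := by
      rw [commutatorElement_def, commutatorElement_def]
      have : c * x⁻¹ * c⁻¹ = x⁻¹ := by
        have h3 : c * x⁻¹ = x⁻¹ * c := by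
          have h4 : x⁻¹ * (c * x) * x⁻¹ = x⁻¹ * (x * c) * x⁻¹ := by rw [hcx]
          rw [show x⁻¹ * (c * x) * x⁻¹ = x⁻¹ * c by group,
            show x⁻¹ * (x * c) * x⁻¹ = c * x⁻¹ by group] at h4
          exact h4.symm
        rw [h3]; group
      calc x * (m * c) * x⁻¹ * (m * c)⁻¹ = x * m * (c * x⁻¹ * c⁻¹) * m⁻¹ := by group
        _ = x * m * x⁻¹ * m⁻¹ := by rw [this]
    rw [hg]
    refine ⟨⁅(⟨x, hQM hxQ⟩ : M), (⟨m, hm⟩ : M)⁆, ?_, ?_⟩
    · exact Subgroup.commutator_mem_commutator (Subgroup.mem_top _) (Subgroup.mem_top _)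
    · simp [commutatorElement_def]
  intro y hy
  have hyQ : (y : G) ∈ (Q : Subgroup G) := by
    rw [hQ]; exact ⟨y, hy, rfl⟩
  rw [hfoc] at hyQ
  obtain ⟨z, hz, hzy⟩ := hle hyQ
  have : z = y := Subtype.ext hzy
  rw [← this]; exact hz

/-- For `p ∈ σ(M)` every Sylow `p`-subgroup of `M` lies in `M'`. -/
theorem sylow_le_commutator_of_sigma (hG : IsMinSimpleOddOrder G)
    (h1404 : type_of% (@Cfsg.CfsgFrozen.S1404 G _ _ hG))
    (M : Subgroup G) (hM : IsCoatom M) (p : ℕ) [Fact p.Prime] (hp : p ∈ sigma M)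
    (P : Sylow p M) : (P : Subgroup M) ≤ commutator M := by
  obtain ⟨-, -, P₀, hP₀⟩ := id hp
  have h0 := sylow_le_commutator_of_normalizer_le hG h1404 M hM p hp P₀ hP₀
  obtain ⟨g, hg⟩ := MulAction.exists_smul_eq M P₀ P
  rw [← hg]
  intro y hy
  rw [Sylow.coe_subgroup_smul, Subgroup.mem_pointwise_smul_iff_inv_smul_mem] at hy
  have h1 := h0 hy
  have h2 : y = g * ((MulAut.conj g)⁻¹ • y) * g⁻¹ := by
    rw [MulAut.smul_def, ← map_inv, MulAut.conj_apply]; group
  rw [h2]
  exact (inferInstance : (commutator M).Normal).conj_mem _ h1 g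

/-- For `p ∈ σ(M)` every Sylow `p`-subgroup of `M` lies in `O_σ(M)`. -/
theorem sylow_le_piCore_sigma (hG : IsMinSimpleOddOrder G)
    (h1404 : type_of% (@Cfsg.CfsgFrozen.S1404 G _ _ hG))
    (h1405 : type_of% (@Cfsg.CfsgFrozen.S1405 G _ _ hG))
    (M : Subgroup G) (hM : IsCoatom M) (p : ℕ) [Fact p.Prime] (hp : p ∈ sigma M)
    (P : Sylow p M) : (P : Subgroup M) ≤ piCore (sigma M) M := by
  obtain ⟨-, -, hασ, -, hnil⟩ := h1405 M hM
  have hKle : piCore (alpha M) M ≤ piCore (sigma M) M :=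
    (Subgroup.map_le_map_iff_of_injective M.subtype_injective).mp hασ
  have hKpi : ∀ q : ℕ, q.Prime → q ∣ Nat.card (piCore (alpha M) M) → q ∈ sigma M :=
    fun q hq hdvd =>
      Cfsg.Agent.S3743.piCore_isPi (sigma M) q hq (hdvd.trans (Subgroup.card_dvd_of_le hKle))
  have hPpi : ∀ q : ℕ, q.Prime → q ∣ Nat.card (P : Subgroup M) → q ∈ sigma M := by
    intro q hq hdvd
    obtain ⟨n, hn⟩ := IsPGroup.iff_card.mp P.isPGroup'
    rw [hn] at hdvd
    have : q = p := (Nat.prime_dvd_prime_iff_eq hq Fact.out).mp (hq.dvd_of_dvd_pow hdvd)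
    rw [this]; exact hp
  have hPc := sylow_le_commutator_of_sigma hG h1404 M hM p hp P
  have hsurj : Function.Surjective (QuotientGroup.mk' (piCore (alpha M) M)) :=
    QuotientGroup.mk'_surjective _
  have hDn : ((commutator M).map (QuotientGroup.mk' (piCore (alpha M) M))).Normal :=
    Subgroup.Normal.map inferInstance _ hsurj
  have hSD : ((P.mapSurjective hsurj : Sylow p (M ⧸ piCore (alpha M) M)) :
      Subgroup (M ⧸ piCore (alpha M) M)) ≤
      (commutator M).map (QuotientGroup.mk' (piCore (alpha M) M)) := by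
    rw [Sylow.coe_mapSurjective]; exact Subgroup.map_mono hPc
  have hSn := sylow_normal_of_le_normal_nilpotent (P.mapSurjective hsurj) _ hnil hSD
  have hN : ((P : Subgroup M) ⊔ piCore (alpha M) M).Normal := by
    have h1 := hSn.comap (QuotientGroup.mk' (piCore (alpha M) M))
    rw [Sylow.coe_mapSurjective, Subgroup.comap_map_eq, QuotientGroup.ker_mk'] at h1
    exact h1
  have hNpi := Cfsg.Agent.S3743.sup_isPi (sigma M) (P : Subgroup M) (piCore (alpha M) M)
    hPpi hKpi
  exact le_sup_left.trans (le_sSup ⟨hN, hNpi⟩)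

/-- BG 10.2(c): `O_σ(M) ≤ M'` (inside `M`). -/
theorem piCore_sigma_le_commutator (hG : IsMinSimpleOddOrder G)
    (h1404 : type_of% (@Cfsg.CfsgFrozen.S1404 G _ _ hG))
    (M : Subgroup G) (hM : IsCoatom M) : piCore (sigma M) M ≤ commutator M := by
  rw [← Subgroup.relIndex_eq_one]
  apply eq_one_of_dvd_pi_of_not_dvd (π := sigma M) (b := Nat.card (piCore (sigma M) M))
  · exact Cfsg.Agent.S3743.piCore_isPi (sigma M)
  · exact Subgroup.relIndex_dvd_card _ _
  · intro q hq hqσ hdvd
    haveI : Fact q.Prime := ⟨hq⟩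
    have P : Sylow q M := default
    have h1 := sylow_le_commutator_of_sigma hG h1404 M hM q hqσ P
    have h2 : (commutator M).relIndex (piCore (sigma M) M) ∣ (commutator M).index :=
      Subgroup.relIndex_dvd_index_of_normal _ _
    have h3 : (commutator M).index ∣ (P : Subgroup M).index := Subgroup.index_dvd_of_le h1
    exact P.not_dvd_index (hdvd.trans (h2.trans h3))

/-- BG 10.2(c): `M_σ ≤ M'` (inside `G`). -/
theorem sigmaCore_le_commutator (hG : IsMinSimpleOddOrder G)
    (h1404 : type_of% (@Cfsg.CfsgFrozen.S1404 G _ _ hG))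
    (M : Subgroup G) (hM : IsCoatom M) : sigmaCore M ≤ ⁅M, M⁆ := by
  rintro _ ⟨x, hx, rfl⟩
  have h1 := piCore_sigma_le_commutator hG h1404 M hM hx
  rw [commutator_def] at h1
  have h2 : (M.subtype x) ∈ (⁅(⊤ : Subgroup M), (⊤ : Subgroup M)⁆).map M.subtype :=
    ⟨x, h1, rfl⟩
  rw [Subgroup.map_commutator, ← MonoidHom.range_eq_map, Subgroup.range_subtype] at h2
  exact h2

/-- Statement S1350 (BG 10.2(b)) from S1404 and S1405. -/
theorem s1350_core (hG : IsMinSimpleOddOrder G)
    (h1404 : type_of% (@Cfsg.CfsgFrozen.S1404 G _ _ hG))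
    (h1405 : type_of% (@Cfsg.CfsgFrozen.S1405 G _ _ hG))
    (M : Subgroup G) (hM : IsCoatom M) :
    IsPiHallOf (sigma M) (sigmaCore M) M ∧ IsPiHall (sigma M) (sigmaCore M) ∧
      ∀ N : Subgroup G, M ≤ Subgroup.normalizer (N : Set G) → IsPiHallOf (sigma M) N M →
        N = sigmaCore M := by
  have hpi : ∀ p : ℕ, p.Prime → p ∣ Nat.card (sigmaCore M) → p ∈ sigma M := by
    intro p hp hdvd
    unfold sigmaCore at hdvd
    rw [Subgroup.card_map_of_injective M.subtype_injective] at hdvd
    exact Cfsg.Agent.S3743.piCore_isPi (sigma M) p hp hdvd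
  have hrel : (sigmaCore M).relIndex M = (piCore (sigma M) M).index := by
    unfold sigmaCore Subgroup.relIndex Subgroup.subgroupOf
    rw [Subgroup.comap_map_eq_self_of_injective M.subtype_injective]
  have hsM : sigmaCore M ≤ M := Subgroup.map_subtype_le _
  refine ⟨⟨hsM, hpi, ?_⟩, ⟨hpi, ?_⟩, ?_⟩
  · intro p hp hpσ hdvd
    haveI : Fact p.Prime := ⟨hp⟩
    have P : Sylow p M := default
    have h1 := sylow_le_piCore_sigma hG h1404 h1405 M hM p hpσ P
    rw [hrel] at hdvd
    exact P.not_dvd_index (hdvd.trans (Subgroup.index_dvd_of_le h1))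
  · intro p hp hpσ hdvd
    haveI : Fact p.Prime := ⟨hp⟩
    obtain ⟨-, -, P₀, hP₀⟩ := id hpσ
    obtain ⟨Q, hQ⟩ := Cfsg.Agent.Lib.Helper72.BG8.exists_sylow_eq_of_normalizer_le M P₀ hP₀
    have h1 := sylow_le_piCore_sigma hG h1404 h1405 M hM p hpσ P₀
    have h2 : (Q : Subgroup G) ≤ sigmaCore M := by
      rw [hQ]; exact Subgroup.map_mono h1
    exact Q.not_dvd_index (hdvd.trans (Subgroup.index_dvd_of_le h2))
  · rintro N hNM ⟨hNle, hNpi, hNhall⟩
    have hle : N ≤ sigmaCore M := by
      have hn : (N.subgroupOf M).Normal := Subgroup.normal_subgroupOf_of_le_normalizer hNM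
      have hc : Nat.card (N.subgroupOf M) = Nat.card N :=
        Nat.card_congr (Subgroup.subgroupOfEquivOfLe hNle).toEquiv
      have h1 : N.subgroupOf M ≤ piCore (sigma M) M :=
        le_sSup ⟨hn, by rw [hc]; exact hNpi⟩
      have h2 := Subgroup.map_mono (f := M.subtype) h1
      rwa [Subgroup.map_subgroupOf_eq_of_le hNle] at h2
    apply le_antisymm hle
    rw [← Subgroup.relIndex_eq_one]
    apply eq_one_of_dvd_pi_of_not_dvd (π := sigma M) hpi (Subgroup.relIndex_dvd_card _ _)
    intro q hq hqσ hdvd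
    exact hNhall q hq hqσ
      (hdvd.trans (Dvd.intro _ (Subgroup.relIndex_mul_relIndex N (sigmaCore M) M hle hsM)))

end Cfsg.Agent.Lib.Helper66.BG
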