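import Mathlib
import Cfsg.Statements.S1350
import Cfsg.Statements.S1367
import Cfsg.Statements.S1378
import Cfsg.Statements.S1403
import Cfsg.Statements.S1405
import Cfsg.Statements.S1417
import Cfsg.Statements.S1418
import Cfsg.Statements.S1419
import Cfsg.Statements.S1430
import Cfsg.Statements.S1431
import Cfsg.Agent.Lib.Helper21.BG.S1431InvSylow
import Cfsg.Agent.Lib.Helper35.BG.Basic
import Cfsg.Agent.Lib.Helper47.BG.SigmaNe
import Cfsg.Agent.Lib.Helper47.BG.S1354Core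
import Cfsg.Agent.Lib.Helper61.BG9c
import Cfsg.Agent.Lib.Helper76.BG.S1420Core
import Cfsg.Agent.Lib.Helper78.BG.S1405Core
import Cfsg.Agent.Lib.Helper67.BG.Basics
import Cfsg.Agent.Lib.Helper66.BG.S1367Util

/-!
Bender–Glauberman Theorem 14.7(a)-type uniqueness (statement S1367), helper66, in the BG-campaign
style: earlier statements are taken as hypotheses (only their *types* are used).

* `cent_unique` : `M` maximal, `K ≠ 1` a Hall `κ(M)`-subgroup, `K* = C_{M_σ}(K)`, and `X ≤ K*` of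
  prime order.  Then `C_G(X) ≤ M` and `M` is the only maximal subgroup containing `C_G(X)`.
* `s1367_core` : statement S1367.
-/

set_option autoImplicit false

namespace Cfsg.Agent.Lib.Helper66.BG

open Cfsg Cfsg.Agent.Lib.Helper46 Cfsg.Agent.Lib.Helper35.BG

variable {G : Type*} [Group G] [Finite G]

/-- In a subgroup of `p`-rank at most one, two commuting elements of order `p` generate the same
subgroup. -/
theorem mem_zpowers_of_pRankLE_one {H : Subgroup G} {p : ℕ} (hp : p.Prime)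
    (hr : PRankLE p 1 H) {a b : G} (ha : a ∈ H) (hb : b ∈ H) (hab : a * b = b * a)
    (hoa : orderOf a = p) (hob : orderOf b = p) : b ∈ Subgroup.zpowers a := by
  by_contra hb'
  have h1 : Nat.card (Subgroup.zpowers a) = p := by rw [Nat.card_zpowers, hoa]
  have h2 : Nat.card (Subgroup.zpowers b) = p := by rw [Nat.card_zpowers, hob]
  have hne : Subgroup.zpowers a ≠ Subgroup.zpowers b := by
    intro h
    exact hb' (h ▸ Subgroup.mem_zpowers b)
  have hc : ∀ x ∈ Subgroup.zpowers a, ∀ y ∈ Subgroup.zpowers b, x * y = y * x := by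
    intro x hx y hy
    obtain ⟨m, rfl⟩ := Subgroup.mem_zpowers_iff.mp hx
    obtain ⟨n, rfl⟩ := Subgroup.mem_zpowers_iff.mp hy
    have : Commute a b := hab
    exact ((this.zpow_left m).zpow_right n).eq
  obtain ⟨hea, hcard⟩ := ea_sup_of_card_prime hp h1 h2 hne hc
  rw [Cfsg.Agent.Lib.Helper24.pRankLE_subgroup_iff] at hr
  have hle : Subgroup.zpowers a ⊔ Subgroup.zpowers b ≤ H :=
    sup_le ((Subgroup.zpowers_le).mpr ha) ((Subgroup.zpowers_le).mpr hb)
  have := hr _ hle (fun x hx y hy => congrArg Subtype.val (hea.1.is_comm.comm ⟨x, hx⟩ ⟨y, hy⟩)) hea.2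
  rw [hcard, pow_one] at this
  nlinarith [hp.two_le]

/-- **BG 14.7(a)-type uniqueness.**  `M` maximal, `K ≠ 1` a Hall `κ(M)`-subgroup of `M`,
`K* = M_σ ∩ C_G(K)`; assume commuting elements of `K*` of the same prime order generate the same
subgroup.  Then for `X ≤ K*` of prime order, `C_G(X) ≤ M` and `M` is the only maximal subgroup
containing `C_G(X)`. -/
theorem cent_unique (hG : IsMinSimpleOddOrder G)
    (h1350 : type_of% (@Cfsg.CfsgFrozen.S1350 G _ _ hG))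
    (h1378 : type_of% (@Cfsg.CfsgFrozen.S1378 G _ _ hG))
    (h1403 : type_of% (@Cfsg.CfsgFrozen.S1403 G _ _ hG))
    (h1405 : type_of% (@Cfsg.CfsgFrozen.S1405 G _ _ hG))
    (h1417 : type_of% (@Cfsg.CfsgFrozen.S1417 G _ _ hG))
    (h1418 : type_of% (@Cfsg.CfsgFrozen.S1418 G _ _ hG))
    (h1419 : type_of% (@Cfsg.CfsgFrozen.S1419 G _ _ hG))
    (h1430 : type_of% (@Cfsg.CfsgFrozen.S1430 G _ _ hG))
    (h1431 : type_of% (@Cfsg.CfsgFrozen.S1431 G _ _ hG))
    (M : Subgroup G) (hM : IsCoatom M) (K : Subgroup G) (hK : IsPiHallOf (kappa M) K M)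
    (hK1 : K ≠ ⊥)
    (hcyc : ∀ a ∈ sigmaCore M ⊓ Subgroup.centralizer (K : Set G),
      ∀ b ∈ sigmaCore M ⊓ Subgroup.centralizer (K : Set G),
      a * b = b * a → (orderOf a).Prime → orderOf b = orderOf a → b ∈ Subgroup.zpowers a)
    (X : Subgroup G) (hX : X ≤ sigmaCore M ⊓ Subgroup.centralizer (K : Set G))
    (hXp : (Nat.card X).Prime) :
    Subgroup.centralizer (X : Set G) ≤ M ∧
      ∀ L : Subgroup G, IsCoatom L → Subgroup.centralizer (X : Set G) ≤ L → L = M := by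
  classical
  obtain ⟨h30a, -, -⟩ := h1430 M hM K hK hK1
  obtain ⟨h31d, -, h31f, -⟩ := h1431 M hM K hK hK1
  have hqp : (Nat.card X).Prime := hXp
  haveI : Fact (Nat.card X).Prime := ⟨hqp⟩
  obtain ⟨x, hxX, hx1, hxo, hxgen⟩ := exists_gen_of_card_prime hqp
  have hX1 : X ≠ ⊥ := fun h => hx1 (by rw [h] at hxX; exact Subgroup.mem_bot.mp hxX)
  have hMsM : sigmaCore M ≤ M := Cfsg.Agent.Lib.Helper67.BG.sigmaCore_le M
  have hXMs : X ≤ sigmaCore M := hX.trans inf_le_left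
  have hXcK : X ≤ Subgroup.centralizer (K : Set G) := hX.trans inf_le_right
  have hXcX : X ≤ Subgroup.centralizer (X : Set G) := by
    intro a ha
    rw [Subgroup.mem_centralizer_iff]
    intro b hb
    exact commute_of_card_prime hqp hb ha
  -- Step 1: `C(X) ≤ M`.
  have hCM : Subgroup.centralizer (X : Set G) ≤ M := by
    intro c hc
    by_contra hcM
    have h1 := h31d c hcM
    apply hX1
    rw [eq_bot_iff, ← h1]
    refine le_inf hX ?_
    intro y hy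
    rw [mem_map_conj_iff]
    have e : c⁻¹ * y * c = y := by
      have := (Subgroup.mem_centralizer_iff.mp hc) y hy
      rw [mul_assoc, this]; group
    rw [e]
    exact hMsM (hXMs hy)
  refine ⟨hCM, ?_⟩
  intro L hL hCL
  by_contra hLM
  have hqσM : Nat.card X ∈ sigma M :=
    Cfsg.Agent.Lib.Helper67.BG.sigmaCore_isPi M _ hqp (Subgroup.card_dvd_of_le hXMs)
  have hXL : X ≤ L := hXcX.trans hCL
  -- Step 2a: `q ∉ σ(L)`.
  have hqσL : Nat.card X ∉ sigma L := by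
    intro hσ
    obtain ⟨g, hg⟩ := h1378.2 M L hM hL ⟨_, hqσM, hσ⟩
    by_cases hgM : g ∈ M
    · apply hLM
      rw [hg]
      exact map_conj_eq_of_mem hgM
    · have h1 := h31d g hgM
      apply hX1
      rw [eq_bot_iff, ← h1]
      exact le_inf hX (hg ▸ hXL)
  -- Step 2b.
  have hKM : K ≤ M := hK.1
  have hKσ : ∀ p : ℕ, p.Prime → p ∣ Nat.card K → p ∉ sigma M :=
    fun p hp hd => (hK.2.1 p hp hd).2.2.1
  have hKcX : K ≤ Subgroup.centralizer (X : Set G) := by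
    intro k hk
    rw [Subgroup.mem_centralizer_iff]
    intro y hy
    exact ((Subgroup.mem_centralizer_iff.mp (hXcK hy)) k hk).symm
  have hKL : K ≤ L := hKcX.trans hCL
  have hKnMs : K ≤ Subgroup.normalizer (sigmaCore M : Set G) :=
    hKM.trans (Cfsg.Agent.Lib.Helper67.BG.sigmaCore_normalizer M)
  have hqK : ¬ Nat.card X ∣ Nat.card K := fun h => hKσ _ hqp h hqσM
  have hcopK : ∀ H : Subgroup G, H ≤ sigmaCore M → (Nat.card H).Coprime (Nat.card K) := by
    intro H hH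
    by_contra hnc
    obtain ⟨p, hp, h1, h2⟩ := Nat.Prime.not_coprime_iff_dvd.mp hnc
    exact hKσ p hp h2 (Cfsg.Agent.Lib.Helper67.BG.sigmaCore_isPi M p hp
      (h1.trans (Subgroup.card_dvd_of_le hH)))
  have hsolK : ∀ H : Subgroup G, H ≤ sigmaCore M → Group.IsSolvable ↥(H ⊔ K) := by
    intro H hH
    apply isSolvable_of_ne_top hG
    intro htop
    exact hM.1 (top_le_iff.mp (htop ▸ sup_le (hH.trans hMsM) hKM))
  -- `D = C_{M_σ}(X)` and a `K`-invariant Sylow `q`-subgroup `Q1` of `D`.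
  have hKD : K ≤ Subgroup.normalizer
      ((sigmaCore M ⊓ Subgroup.centralizer (X : Set G) : Subgroup G) : Set G) := by
    intro k hk
    exact Subgroup.inf_normalizer_le_normalizer_inf
      ⟨hKnMs hk, Subgroup.le_normalizer (hKcX hk)⟩
  have hXpg : IsPGroup (Nat.card X) X := IsPGroup.of_card (n := 1) (by rw [pow_one])
  have hXD : X ≤ sigmaCore M ⊓ Subgroup.centralizer (X : Set G) := le_inf hXMs hXcX
  have hKnX : K ≤ Subgroup.normalizer (X : Set G) := hKcX.trans (centralizer_le_normalizer' X)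
  obtain ⟨Q1, hQ1, hXQ1, hKQ1⟩ := Cfsg.Agent.Lib.Helper21.BG.lemInvSylow
    (sigmaCore M ⊓ Subgroup.centralizer (X : Set G)) K X hKD
    (hcopK _ inf_le_left) hqK (hsolK _ inf_le_left) hXpg hXD hKnX
  have hQ1D : Q1 ≤ sigmaCore M ⊓ Subgroup.centralizer (X : Set G) := hQ1.1
  have hQ1p : IsPGroup (Nat.card X) Q1 := sylIn_isPGroup hQ1
  -- `N = N_{M_σ}(Q1)` and a `K`-invariant Sylow `q`-subgroup `Q2` of `N`.
  have hKN : K ≤ Subgroup.normalizer
      ((sigmaCore M ⊓ Subgroup.normalizer (Q1 : Set G) : Subgroup G) : Set G) := by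
    intro k hk
    exact Subgroup.inf_normalizer_le_normalizer_inf
      ⟨hKnMs hk, Subgroup.le_normalizer (hKQ1 hk)⟩
  have hQ1N : Q1 ≤ sigmaCore M ⊓ Subgroup.normalizer (Q1 : Set G) :=
    le_inf (hQ1D.trans inf_le_left) Subgroup.le_normalizer
  obtain ⟨Q2, hQ2, hQ12, hKQ2⟩ := Cfsg.Agent.Lib.Helper21.BG.lemInvSylow
    (sigmaCore M ⊓ Subgroup.normalizer (Q1 : Set G)) K Q1 hKN
    (hcopK _ inf_le_left) hqK (hsolK _ inf_le_left) hQ1p hQ1N hKQ1
  have hQ2p : IsPGroup (Nat.card X) Q2 := sylIn_isPGroup hQ2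
  have hQ2Ms : Q2 ≤ sigmaCore M := hQ2.1.trans inf_le_left
  have hQ1L : Q1 ≤ L := (hQ1D.trans inf_le_right).trans hCL
  have hF1 : Q2 ⊓ Subgroup.centralizer (X : Set G) = Q1 :=
    sylIn_eq_of_le hQ1 (hQ2p.to_le inf_le_left) (inf_le_inf hQ2Ms le_rfl)
      (le_inf hQ12 (hQ1D.trans inf_le_right))
  -- `Q1 ≠ Q2`, since otherwise `Q1` is a Sylow subgroup of `M_σ` contained in `L`.
  have hne12 : Q1 ≠ Q2 := by
    intro h12
    obtain ⟨S, hS, hQ1S⟩ := exists_isSylowIn_ge hQ1p (hQ1D.trans inf_le_left)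
    by_cases hSL : Q1 = S
    · obtain ⟨S', hS'⟩ := hS.exists_sylow
      have hqKs : Nat.card X ∣
          Nat.card ↥(sigmaCore M ⊓ Subgroup.centralizer (K : Set G)) :=
        Subgroup.card_dvd_of_le hX
      obtain ⟨huniq, hSM, -⟩ := h31f _ hqp hqKs S'
      rw [hS'] at huniq hSM
      obtain ⟨M', -, hM'⟩ := huniq
      have e1 := hM' M ⟨hM, hSM⟩
      have e2 := hM' L ⟨hL, hSL ▸ hQ1L⟩
      exact hLM (e2.trans e1.symm)
    · obtain ⟨y, hyS, hyN, hyQ⟩ :=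
        exists_mem_normalizer_not_mem (sylIn_isPGroup hS) hQ1S hSL
      have hT : S ⊓ Subgroup.normalizer (Q1 : Set G) = Q2 :=
        sylIn_eq_of_le hQ2 ((sylIn_isPGroup hS).to_le inf_le_left) (inf_le_inf hS.1 le_rfl)
          (h12 ▸ le_inf hQ1S Subgroup.le_normalizer)
      have hy2 : y ∈ Q2 := hT ▸ (⟨hyS, hyN⟩ : y ∈ S ⊓ Subgroup.normalizer (Q1 : Set G))
      exact hyQ (h12 ▸ hy2)
  have hF2 : ¬ Q2 ≤ Subgroup.centralizer (X : Set G) := by
    intro h
    apply hne12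
    rw [← hF1]
    exact (inf_eq_left.mpr h)
  -- A central element `z` of order `q` of `Q2`.
  have hQ2ne : Q2 ≠ ⊥ := fun h => hX1 (eq_bot_iff.mpr (h ▸ hXQ1.trans hQ12))
  haveI : Nontrivial Q2 := (Subgroup.nontrivial_iff_ne_bot Q2).mpr hQ2ne
  have hcen : Nontrivial (Subgroup.center Q2) := hQ2p.center_nontrivial
  have hZ2ne : Q2 ⊓ Subgroup.centralizer (Q2 : Set G) ≠ ⊥ := by
    obtain ⟨⟨w, hw⟩, hw1⟩ := exists_ne (1 : Subgroup.center Q2)
    intro hbot
    have hwG : (w : G) ∈ Q2 ⊓ Subgroup.centralizer (Q2 : Set G) := by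
      refine ⟨w.2, ?_⟩
      show (w : G) ∈ Subgroup.centralizer (Q2 : Set G)
      rw [Subgroup.mem_centralizer_iff]
      intro y hy
      have := (Subgroup.mem_center_iff.mp hw) ⟨y, hy⟩
      exact congrArg Subtype.val this
    rw [hbot, Subgroup.mem_bot] at hwG
    exact hw1 (Subtype.ext (Subtype.ext hwG))
  have hZ2p : IsPGroup (Nat.card X) ↥(Q2 ⊓ Subgroup.centralizer (Q2 : Set G)) :=
    hQ2p.to_le inf_le_left
  have hqZ2 := Cfsg.Agent.Lib.Helper67.BG.dvd_card_of_isPGroup_ne_bot hZ2p hZ2ne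
  obtain ⟨⟨z, hzZ⟩, hzo⟩ := exists_prime_orderOf_dvd_card' (Nat.card X) hqZ2
  have hzo' : orderOf z = Nat.card X := by rw [← hzo]; exact (Subgroup.orderOf_mk z hzZ).symm
  have hzQ2 : z ∈ Q2 := hzZ.1
  have hzcQ2 : z ∈ Subgroup.centralizer (Q2 : Set G) := hzZ.2
  have hzcomm : ∀ y ∈ Q2, ∀ m : ℤ, z ^ m * y = y * z ^ m := by
    intro y hy m
    have : Commute z y := ((Subgroup.mem_centralizer_iff.mp hzcQ2) y hy).symm
    exact (this.zpow_left m).eq
  have hzcX : z ∈ Subgroup.centralizer (X : Set G) := by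
    rw [Subgroup.mem_centralizer_iff]
    intro a ha
    have := hzcomm a (hQ12 (hXQ1 ha)) 1
    rw [zpow_one] at this
    exact this.symm
  have hzQ1 : z ∈ Q1 := hF1 ▸ (⟨hzQ2, hzcX⟩ : z ∈ Q2 ⊓ Subgroup.centralizer (X : Set G))
  obtain ⟨X0, hX0⟩ : ∃ X0 : Subgroup G, X0 = Subgroup.zpowers z := ⟨_, rfl⟩
  have hX0card : Nat.card X0 = Nat.card X := by rw [hX0, Nat.card_zpowers, hzo']
  have hX0Q1 : X0 ≤ Q1 := by rw [hX0, Subgroup.zpowers_le]; exact hzQ1
  have hX0cQ2 : ∀ b ∈ X0, ∀ y ∈ Q2, b * y = y * b := by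
    intro b hb y hy
    rw [hX0] at hb
    obtain ⟨m, rfl⟩ := Subgroup.mem_zpowers_iff.mp hb
    exact hzcomm y hy m
  have hXX0 : X ≠ X0 := by
    intro h
    apply hF2
    intro y hy
    rw [Subgroup.mem_centralizer_iff]
    intro a ha
    exact hX0cQ2 a (h ▸ ha) y hy
  have hcXX0 : ∀ a ∈ X, ∀ b ∈ X0, a * b = b * a := by
    intro a ha b hb
    exact (hX0cQ2 b hb a (hQ12 (hXQ1 ha))).symm
  obtain ⟨hAea, hAcard⟩ := ea_sup_of_card_prime hqp rfl hX0card hXX0 hcXX0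
  have hAQ1 : X ⊔ X0 ≤ Q1 := sup_le hXQ1 hX0Q1
  have hAL : X ⊔ X0 ≤ L := hAQ1.trans hQ1L
  have hXX0bot : X ⊓ X0 = ⊥ := inf_eq_bot_of_card_prime_ne hqp rfl hX0card hXX0
  -- `q ∈ τ₂(L)`.
  have hr2 : PRankLE (Nat.card X) 2 L := by
    by_contra h
    exact hqσL (Cfsg.Agent.Lib.Helper78.BG.alpha_subset_sigma hG h1403 L hL ⟨hqp, h⟩)
  have hr1 : ¬ PRankLE (Nat.card X) 1 L := by
    intro h
    rw [Cfsg.Agent.Lib.Helper24.pRankLE_subgroup_iff] at h
    have := h _ hAL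
      (fun a ha b hb => congrArg Subtype.val (hAea.1.is_comm.comm ⟨a, ha⟩ ⟨b, hb⟩)) hAea.2
    rw [hAcard, pow_one] at this
    nlinarith [hqp.two_le]
  have hτ : Nat.card X ∈ tau2 L := ⟨hqp, hqσL, hr2, hr1⟩
  -- A complement `E` of `L_σ` in `L` containing `A`.
  obtain ⟨hHallL, -, -⟩ := h1350 L hL
  have hAσ : ∀ p : ℕ, p.Prime → p ∣ Nat.card (X ⊔ X0 : Subgroup G) → p ∉ sigma L := by
    intro p hp hd
    rw [hAcard] at hd
    have : p = Nat.card X := (Nat.prime_dvd_prime_iff_eq hp hqp).mp (hp.dvd_of_dvd_pow hd)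
    rw [this]; exact hqσL
  obtain ⟨E, hE, hAE⟩ := Cfsg.Agent.Lib.Helper76.BG.exists_compl_ge hG L hL hHallL _ hAL hAσ
  obtain ⟨-, h17b, -, -, -, -⟩ := h1417 L hL (Nat.card X) hτ (X ⊔ X0) ⟨hAL, hAea, hAcard⟩
  -- `q`-subgroups of `L` are abelian.
  have hLab : ∀ R : Subgroup G, IsPGroup (Nat.card X) R → R ≤ L →
      ∀ a ∈ R, ∀ b ∈ R, a * b = b * a := by
    intro R hR hRL a ha b hb
    obtain ⟨P, hP, hRP⟩ := exists_isSylowIn_ge hR hRL
    obtain ⟨P', hP'⟩ := hP.exists_sylow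
    have hc := (h17b P').1
    have haP : a ∈ (P' : Subgroup L).map L.subtype := hP' ▸ hRP ha
    have hbP : b ∈ (P' : Subgroup L).map L.subtype := hP' ▸ hRP hb
    obtain ⟨a', ha', rfl⟩ := haP
    obtain ⟨b', hb', rfl⟩ := hbP
    have e : (⟨a', ha'⟩ : (P' : Subgroup L)) * ⟨b', hb'⟩ = ⟨b', hb'⟩ * ⟨a', ha'⟩ :=
      hc.is_comm.comm ⟨a', ha'⟩ ⟨b', hb'⟩
    have e' : a' * b' = b' * a' := congrArg Subtype.val e
    exact congrArg Subtype.val e'
  -- Elements of order dividing `q` in `Q1` lie in `A`.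
  have hΩ : ∀ y ∈ Q1, y ^ Nat.card X = 1 → y ∈ X ⊔ X0 := by
    intro y hy hyq
    obtain ⟨P, hP, hQ1P⟩ := exists_isSylowIn_ge hQ1p hQ1L
    obtain ⟨P', hP'⟩ := hP.exists_sylow
    have h := (h17b P').2 (hP' ▸ hAQ1.trans hQ1P)
    exact (h.1 y (hP' ▸ hQ1P hy)).mp hyq
  obtain ⟨-, -, h18c⟩ := h1418 L hL E hE (Nat.card X) hτ (X ⊔ X0) ⟨hAE, hAea, hAcard⟩
  have hcX : sigmaCore L ⊓ Subgroup.centralizer (X : Set G) = ⊥ := by
    by_contra h
    obtain ⟨-, hu⟩ := h18c X le_sup_left rfl h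
    exact hLM (hu M hM hCM).symm
  have hcX0 : sigmaCore L ⊓ Subgroup.centralizer (X0 : Set G) = ⊥ := by
    by_contra h
    obtain ⟨hC0, -⟩ := h18c X0 le_sup_right hX0card h
    have hQ2L : Q2 ≤ L := by
      refine le_trans ?_ hC0
      intro y hy
      rw [Subgroup.mem_centralizer_iff]
      intro b hb
      exact hX0cQ2 b hb y hy
    apply hF2
    intro y hy
    rw [Subgroup.mem_centralizer_iff]
    intro a ha
    exact hLab Q2 hQ2p hQ2L a (hQ12 (hXQ1 ha)) y hy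
  -- Sylow `q`-subgroups of `G` are nonabelian.
  have hS : ∀ S : Sylow (Nat.card X) G, ¬ IsMulCommutative (S : Subgroup G) := by
    intro S hSc
    obtain ⟨S2, hS2⟩ := hQ2p.exists_le_sylow
    obtain ⟨g, hg⟩ := MulAction.exists_smul_eq G S S2
    have hmem : ∀ y ∈ Q2, g⁻¹ * y * g ∈ (S : Subgroup G) := by
      intro y hy
      have h1 : y ∈ ((g • S : Sylow (Nat.card X) G) : Subgroup G) := hg ▸ hS2 hy
      rw [Sylow.coe_subgroup_smul, Subgroup.mem_pointwise_smul_iff_inv_smul_mem,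
        MulAut.smul_def, MulAut.conj_inv_apply] at h1
      exact h1
    apply hF2
    intro y hy
    rw [Subgroup.mem_centralizer_iff]
    intro a ha
    have e : (⟨g⁻¹ * a * g, hmem a (hQ12 (hXQ1 ha))⟩ : (S : Subgroup G)) * ⟨g⁻¹ * y * g, hmem y hy⟩
        = ⟨g⁻¹ * y * g, hmem y hy⟩ * ⟨g⁻¹ * a * g, hmem a (hQ12 (hXQ1 ha))⟩ :=
      hSc.is_comm.comm _ _
    have e' : g⁻¹ * a * g * (g⁻¹ * y * g) = g⁻¹ * y * g * (g⁻¹ * a * g) := congrArg Subtype.val e
    have e'' : g⁻¹ * (a * y) * g = g⁻¹ * (y * a) * g := by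
      calc g⁻¹ * (a * y) * g = g⁻¹ * a * g * (g⁻¹ * y * g) := by group
        _ = g⁻¹ * y * g * (g⁻¹ * a * g) := e'
        _ = g⁻¹ * (y * a) * g := by group
    exact mul_left_cancel (mul_right_cancel e'')
  obtain ⟨-, ⟨hA00card, -⟩, -⟩ := h1419 L hL E hE (Nat.card X) hτ hS (X ⊔ X0) ⟨hAE, hAea, hAcard⟩
  have hLσne : sigmaCore L ≠ ⊥ := Cfsg.Agent.Lib.Helper47.BG.sigmaCore_ne_bot hG h1405 L hL
  -- The line `A ∩ C(L_σ)` differs from `X` and from `X0`.
  have hline : ∀ B : Subgroup G, sigmaCore L ⊓ Subgroup.centralizer (B : Set G) = ⊥ →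
      (X ⊔ X0) ⊓ Subgroup.centralizer (sigmaCore L : Set G) ≠ B := by
    intro B hB h
    apply hLσne
    rw [eq_bot_iff, ← hB]
    refine le_inf le_rfl ?_
    intro y hy
    rw [Subgroup.mem_centralizer_iff]
    intro a ha
    have haA : a ∈ (X ⊔ X0) ⊓ Subgroup.centralizer (sigmaCore L : Set G) := h ▸ ha
    exact ((Subgroup.mem_centralizer_iff.mp haA.2) y hy).symm
  have hA00X := hline X hcX
  have hA00X0 := hline X0 hcX0
  -- A non-identity element `k` of `K`.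
  obtain ⟨⟨k, hkK⟩, hk1'⟩ := Subgroup.ne_bot_iff_exists_ne_one.mp hK1
  have hk1 : k ≠ 1 := fun h => hk1' (Subtype.ext h)
  have hkL : k ∈ L := hKL hkK
  have hA00p : (Nat.card ↥((X ⊔ X0) ⊓ Subgroup.centralizer (sigmaCore L : Set G))).Prime :=
    hA00card ▸ hqp
  obtain ⟨a, haA, ha1, -, -⟩ := exists_gen_of_card_prime hA00p
  obtain ⟨x', hx', z', hz', rfl⟩ := mem_sup_of_comm hcXX0 haA.1
  have hz'1 : z' ≠ 1 := by
    intro h
    have h2 : x' * z' ∈ (X ⊔ X0) ⊓ Subgroup.centralizer (sigmaCore L : Set G) ⊓ X :=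
      ⟨haA, by rw [h, mul_one]; exact hx'⟩
    rw [inf_eq_bot_of_card_prime_ne hqp hA00card rfl hA00X, Subgroup.mem_bot] at h2
    exact ha1 h2
  -- `k` normalizes `X0`.
  have hkx' : k * x' * k⁻¹ = x' := by
    have := (Subgroup.mem_centralizer_iff.mp (hKcX hkK)) x' hx'
    rw [← this]; group
  have hkQ2 : ∀ y, y ∈ Q2 → k * y * k⁻¹ ∈ Q2 := fun y hy =>
    (Subgroup.mem_normalizer_iff.mp (hKQ2 hkK) y).mp hy
  have hkQ2' : ∀ y, y ∈ Q2 → k⁻¹ * y * k ∈ Q2 := by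
    intro y hy
    have := (Subgroup.mem_normalizer_iff.mp (hKQ2 (K.inv_mem hkK)) y).mp hy
    rwa [inv_inv] at this
  have hkQ1 : ∀ y, y ∈ Q1 → k * y * k⁻¹ ∈ Q1 := fun y hy =>
    (Subgroup.mem_normalizer_iff.mp (hKQ1 hkK) y).mp hy
  have hkz : k * z' * k⁻¹ ∈ X0 := by
    -- `k z' k⁻¹` is a central element of `Q2` of order dividing `q`, lying in `A`
    have h1 : k * z' * k⁻¹ ∈ Q1 := hkQ1 z' (hX0Q1 hz')
    have h2 : (k * z' * k⁻¹) ^ Nat.card X = 1 := by
      rw [conj_pow]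
      have : z' ^ Nat.card X = 1 := hAea.2 z' (le_sup_right (a := X) hz')
      rw [this]; group
    have h3 := hΩ _ h1 h2
    obtain ⟨x'', hx'', z'', hz'', e⟩ := mem_sup_of_comm hcXX0 h3
    -- `x''` is central in `Q2`
    have hcen' : ∀ y ∈ Q2, (k * z' * k⁻¹) * y = y * (k * z' * k⁻¹) := by
      intro y hy
      have := hX0cQ2 z' hz' (k⁻¹ * y * k) (hkQ2' y hy)
      calc k * z' * k⁻¹ * y = k * (z' * (k⁻¹ * y * k)) * k⁻¹ := by group
        _ = k * ((k⁻¹ * y * k) * z') * k⁻¹ := by rw [this]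
        _ = y * (k * z' * k⁻¹) := by group
    have hx''c : ∀ y ∈ Q2, x'' * y = y * x'' := by
      intro y hy
      have e1 : x'' = (k * z' * k⁻¹) * z''⁻¹ := by rw [e]; group
      have e2 := hX0cQ2 z''⁻¹ (X0.inv_mem hz'') y hy
      rw [e1, mul_assoc, e2, ← mul_assoc, hcen' y hy, mul_assoc]
    have hx''1 : x'' = 1 := by
      by_contra hne
      apply hF2
      obtain ⟨hgen, -⟩ := zpowers_eq_of_mem_of_card_prime hqp hx'' hne
      intro y hy
      rw [Subgroup.mem_centralizer_iff]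
      intro b hb
      rw [← hgen] at hb
      obtain ⟨m, rfl⟩ := Subgroup.mem_zpowers_iff.mp hb
      have : Commute x'' y := hx''c y hy
      exact (this.zpow_left m).eq
    rw [e, hx''1, one_mul]
    exact hz''
  -- `k` normalizes `A ∩ C(L_σ)`.
  have hka : k * (x' * z') * k⁻¹ ∈ (X ⊔ X0) ⊓ Subgroup.centralizer (sigmaCore L : Set G) := by
    refine ⟨?_, ?_⟩
    · have : k * (x' * z') * k⁻¹ = x' * (k * z' * k⁻¹) := by
        calc k * (x' * z') * k⁻¹ = (k * x' * k⁻¹) * (k * z' * k⁻¹) := by group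
          _ = x' * (k * z' * k⁻¹) := by rw [hkx']
      rw [this]
      exact Subgroup.mul_mem _ (Subgroup.mem_sup_left hx') (Subgroup.mem_sup_right hkz)
    · show k * (x' * z') * k⁻¹ ∈ Subgroup.centralizer (sigmaCore L : Set G)
      rw [Subgroup.mem_centralizer_iff]
      intro y hy
      have hy' : k⁻¹ * y * k ∈ sigmaCore L := by
        have := (Subgroup.mem_normalizer_iff.mp
          (Cfsg.Agent.Lib.Helper67.BG.sigmaCore_normalizer L (L.inv_mem hkL)) y).mp hy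
        rwa [inv_inv] at this
      have := (Subgroup.mem_centralizer_iff.mp haA.2) _ hy'
      calc y * (k * (x' * z') * k⁻¹) = k * ((k⁻¹ * y * k) * (x' * z')) * k⁻¹ := by group
        _ = k * ((x' * z') * (k⁻¹ * y * k)) * k⁻¹ := by rw [this]
        _ = k * (x' * z') * k⁻¹ * y := by group
  -- hence `k` centralizes `z'`.
  have hkz' : k * z' * k⁻¹ = z' := by
    have h1 : (k * (x' * z') * k⁻¹) * (x' * z')⁻¹ ∈
        (X ⊔ X0) ⊓ Subgroup.centralizer (sigmaCore L : Set G) ⊓ X0 := by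
      refine ⟨Subgroup.mul_mem _ hka (Subgroup.inv_mem _ haA), ?_⟩
      have e1 : (k * (x' * z') * k⁻¹) * (x' * z')⁻¹ = x' * ((k * z' * k⁻¹) * z'⁻¹) * x'⁻¹ := by
        calc (k * (x' * z') * k⁻¹) * (x' * z')⁻¹
            = (k * x' * k⁻¹) * ((k * z' * k⁻¹) * z'⁻¹) * x'⁻¹ := by group
          _ = x' * ((k * z' * k⁻¹) * z'⁻¹) * x'⁻¹ := by rw [hkx']
      have hw : (k * z' * k⁻¹) * z'⁻¹ ∈ X0 := X0.mul_mem hkz (X0.inv_mem hz')
      have e2 : x' * ((k * z' * k⁻¹) * z'⁻¹) * x'⁻¹ = (k * z' * k⁻¹) * z'⁻¹ := by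
        rw [hcXX0 x' hx' _ hw]; group
      rw [e1, e2]
      exact hw
    rw [inf_eq_bot_of_card_prime_ne hqp hA00card hX0card hA00X0, Subgroup.mem_bot] at h1
    have e3 : (k * (x' * z') * k⁻¹) * (x' * z')⁻¹ = x' * ((k * z' * k⁻¹) * z'⁻¹) * x'⁻¹ := by
      calc (k * (x' * z') * k⁻¹) * (x' * z')⁻¹
          = (k * x' * k⁻¹) * ((k * z' * k⁻¹) * z'⁻¹) * x'⁻¹ := by group
        _ = x' * ((k * z' * k⁻¹) * z'⁻¹) * x'⁻¹ := by rw [hkx']
    rw [e3] at h1
    have e4 : (k * z' * k⁻¹) * z'⁻¹ = 1 := by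
      have : (k * z' * k⁻¹) * z'⁻¹ = x'⁻¹ * (x' * ((k * z' * k⁻¹) * z'⁻¹) * x'⁻¹) * x' := by group
      rw [this, h1]; group
    exact mul_inv_eq_one.mp e4
  -- so `z' ∈ K*`, and `K*` has a unique subgroup of order `q`: contradiction.
  have hz'Ks : z' ∈ sigmaCore M ⊓ Subgroup.centralizer (K : Set G) := by
    rw [← h30a k hkK hk1]
    refine ⟨(hQ1D (hX0Q1 hz')).1, ?_⟩
    show z' ∈ Subgroup.centralizer ({k} : Set G)
    rw [Subgroup.mem_centralizer_iff]
    intro h hh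
    rw [Set.mem_singleton_iff] at hh
    rw [hh]
    calc k * z' = (k * z' * k⁻¹) * k := by group
      _ = z' * k := by rw [hkz']
  have hz'o : orderOf z' = Nat.card X := by
    have := (zpowers_eq_of_mem_of_card_prime (hX0card ▸ hqp) hz' hz'1).2
    rw [this, hX0card]
  have hmem := hcyc x (hX hxX) z' hz'Ks (hcXX0 x hxX z' hz') (hxo ▸ hqp) (hz'o.trans hxo.symm)
  rw [hxgen] at hmem
  have : z' ∈ X ⊓ X0 := ⟨hmem, hz'⟩
  rw [hXX0bot, Subgroup.mem_bot] at this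
  exact hz'1 this

/-- **Statement S1367**, from the earlier statements S1350, S1378, S1403, S1405, S1417, S1418,
S1419, S1430, S1431 (taken as hypotheses). -/
theorem s1367_core (hG : IsMinSimpleOddOrder G)
    (h1350 : type_of% (@Cfsg.CfsgFrozen.S1350 G _ _ hG))
    (h1378 : type_of% (@Cfsg.CfsgFrozen.S1378 G _ _ hG))
    (h1403 : type_of% (@Cfsg.CfsgFrozen.S1403 G _ _ hG))
    (h1405 : type_of% (@Cfsg.CfsgFrozen.S1405 G _ _ hG))
    (h1417 : type_of% (@Cfsg.CfsgFrozen.S1417 G _ _ hG))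
    (h1418 : type_of% (@Cfsg.CfsgFrozen.S1418 G _ _ hG))
    (h1419 : type_of% (@Cfsg.CfsgFrozen.S1419 G _ _ hG))
    (h1430 : type_of% (@Cfsg.CfsgFrozen.S1430 G _ _ hG))
    (h1431 : type_of% (@Cfsg.CfsgFrozen.S1431 G _ _ hG)) :
    type_of% (@Cfsg.CfsgFrozen.S1367 G _ _ hG) := by
  intro M hM K U hKU hK1 Mstar hMstar hKst hKstH
  obtain ⟨Ks, hKsdef⟩ : ∃ Ks : Subgroup G,
      Ks = sigmaCore M ⊓ Subgroup.centralizer (K : Set G) := ⟨_, rfl⟩
  have hKst2 : K = sigmaCore Mstar ⊓ Subgroup.centralizer (Ks : Set G) := by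
    rw [hKsdef]; exact hKst
  refine ⟨?_, ?_⟩
  · intro X hX hXp
    refine cent_unique hG h1350 h1378 h1403 h1405 h1417 h1418 h1419 h1430 h1431 M hM K
      hKU.hall hK1 ?_ X hX hXp
    intro a ha b hb hab hpa hob
    haveI : Fact (orderOf a).Prime := ⟨hpa⟩
    have hd : orderOf a ∣ Nat.card ↥(sigmaCore M ⊓ Subgroup.centralizer (K : Set G)) :=
      Subgroup.orderOf_dvd_natCard _ ha
    obtain ⟨-, -, -, hcy⟩ := hKstH.2.1 _ hpa hd
    obtain ⟨P⟩ : Nonempty (Sylow (orderOf a) Mstar) := inferInstance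
    haveI hPc : IsCyclic (P : Subgroup Mstar) := (hcy P).1
    haveI : IsCyclic ↥((P : Subgroup Mstar).map Mstar.subtype) :=
      isCyclic_of_surjective
        ((P : Subgroup Mstar).equivMapOfInjective Mstar.subtype Mstar.subtype_injective)
        ((P : Subgroup Mstar).equivMapOfInjective Mstar.subtype Mstar.subtype_injective).surjective
    have hr : PRankLE (orderOf a) 1 Mstar :=
      pRankLE_of_isSylowIn (isSylowIn_of_sylow P)
        (Cfsg.Agent.Lib.Helper61.bg_pRankLE_one_of_isCyclic hpa)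
    exact mem_zpowers_of_pRankLE_one hpa hr (hKstH.1 ha) (hKstH.1 hb) hab rfl hob
  · intro Y hY hYp
    have hKs1 : Ks ≠ ⊥ := by
      rw [hKsdef]
      exact (Cfsg.Agent.Lib.Helper47.BG.s1354_core hG h1405 h1430 M hM K hKU.cyclic hKU.hall).1
    have hKstH' : IsPiHallOf (kappa Mstar) Ks Mstar := by rw [hKsdef]; exact hKstH
    have hY' : Y ≤ sigmaCore Mstar ⊓ Subgroup.centralizer (Ks : Set G) := by
      rw [← hKst2]; exact hY
    refine cent_unique hG h1350 h1378 h1403 h1405 h1417 h1418 h1419 h1430 h1431 Mstar hMstar Ks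
      hKstH' hKs1 ?_ Y hY' hYp
    intro a ha b hb hab hpa hob
    rw [← hKst2] at ha hb
    have hr : PRankLE (orderOf a) 1 K := by
      haveI := hKU.cyclic
      exact Cfsg.Agent.Lib.Helper61.bg_pRankLE_one_of_isCyclic hpa
    exact mem_zpowers_of_pRankLE_one hpa hr ha hb hab rfl hob

end Cfsg.Agent.Lib.Helper66.BG
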